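import Mathlib
import Groth.Agent.KAModule.Basic
import Groth.Agent.Pur21Len.Basic
import Groth.Agent.LenSum2.Basic

/-!
Finite type domain extensions of a one-dimensional local domain: primes, length sums, degree bound.
-/

set_option autoImplicit false
set_option linter.style.haveILetI false

namespace Groth.Agent.KADeg

universe u

open nonZeroDivisors
open scoped Pointwise

variable {A : Type u} [CommRing A] [IsDomain A] [IsNoetherianRing A] [IsLocalRing A]

/-- The length of `M/xM` for a finitely generated lattice `M` in `K^n`. -/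
theorem length_lattice (hdim : ringKrullDim A = 1) {K : Type u} [Field K] [Algebra A K] [IsFractionRing A K]
    {n : ℕ} (M : Submodule A (Fin n → K)) (hfg : M.FG) (hfull : ∀ v, ∃ c ∈ A⁰, c • v ∈ M)
    {x : A} (hx : x ≠ 0) :
    Module.length A (M ⧸ (Ideal.span ({x} : Set A) • (⊤ : Submodule A M))) =
      n * Module.length A (A ⧸ Ideal.span ({x} : Set A)) := by
  haveI : Module.Finite A M := Module.Finite.iff_fg.2 hfg
  haveI : IsLocalizedModule A⁰ M.subtype :=
    { map_units := fun s => (Module.End.isUnit_iff _).2 (by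
        have hs : algebraMap A K s ≠ 0 := by
          rw [Ne, map_eq_zero_iff _ (IsFractionRing.injective A K)]
          exact nonZeroDivisors.ne_zero s.2
        constructor
        · intro a b hab
          funext i
          have hi := congrFun hab i
          simp only [Module.algebraMap_end_apply, Pi.smul_apply, Algebra.smul_def] at hi
          exact mul_left_cancel₀ hs hi
        · intro a
          exact ⟨fun i => (algebraMap A K s)⁻¹ * a i, funext fun i => by
            simp [Module.algebraMap_end_apply, Algebra.smul_def, hs]⟩)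
      surj := fun v => by
        obtain ⟨c, hc, hcv⟩ := hfull v
        exact ⟨(⟨_, hcv⟩, ⟨c, hc⟩), rfl⟩
      exists_of_eq := fun h => ⟨1, by rw [Subtype.val_injective h]⟩ }
  let eK : K ≃ₗ[A] Localization A⁰ := (IsLocalization.algEquiv A⁰ K (Localization A⁰)).toLinearEquiv
  let e₀ : LocalizedModule A⁰ M ≃ₗ[Localization A⁰] (Fin n → Localization A⁰) :=
    ((IsLocalizedModule.iso A⁰ M.subtype).trans
      (LinearEquiv.piCongrRight fun _ => eK)).extendScalarsOfIsLocalization A⁰ (Localization A⁰)
  have ht : x ∈ A⁰ := mem_nonZeroDivisors_of_ne_zero hx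
  have h := Pur21Len.defect_of_free hdim x ht M n e₀
  have hker : Subsingleton (LinearMap.ker (x • (LinearMap.id : M →ₗ[A] M))) := ⟨fun a b => by
    have key : ∀ c : LinearMap.ker (x • (LinearMap.id : M →ₗ[A] M)), c = 0 := fun c => by
      refine Subtype.ext (Subtype.ext (funext fun i => ?_))
      have hi : x • ((c.1 : M) : Fin n → K) i = 0 := congrFun (congrArg Subtype.val (LinearMap.mem_ker.1 c.2)) i
      rw [Algebra.smul_def, mul_eq_zero] at hi
      exact hi.resolve_left ((map_ne_zero_iff _ (IsFractionRing.injective A K)).2 hx)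
    rw [key a, key b]⟩
  rw [Pur21Len.defect, Module.length_eq_zero_iff.2 hker, ENat.toNat_zero, Nat.cast_zero, sub_zero] at h
  have hA := Pur21Len.length_quot_span hdim ht
  have hM := Pur21Len.length_coker_lt hdim x ht M
  rw [Submodule.ideal_span_singleton_smul]
  change Module.length A (QuotSMulTop x M) = _
  rw [← ENat.coe_toNat hM.ne, ← ENat.coe_toNat hA.ne]
  exact_mod_cast h

section

variable {B : Type u} [CommRing B] [IsDomain B] [Algebra A B]

theorem exists_algebraMap_mem (hdim : ringKrullDim A = 1) {x : A} (hx : x ∈ IsLocalRing.maximalIdeal A)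
    (c : A) (hc : c ≠ 0) : ∃ N : ℕ, x ^ N ∈ Ideal.span ({c} : Set A) := by
  haveI : Ring.KrullDimLE 1 A := Ring.krullDimLE_iff.2 hdim.le
  show x ∈ (Ideal.span ({c} : Set A)).radical
  rw [Ideal.radical_eq_sInf, Submodule.mem_sInf]
  rintro P ⟨hP, hPp⟩
  haveI := hPp
  haveI hm : Ideal.IsMaximal P := hPp.isMaximal_of_ne_bot fun h => hc (Ideal.mem_bot.1 (h ▸ hP (Ideal.mem_span_singleton_self c)))
  rw [IsLocalRing.eq_maximalIdeal hm]
  exact hx

theorem mem_of_prime_ne_bot (hdim : ringKrullDim A = 1) [Algebra.IsAlgebraic A B] {x : A}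
    (hx : x ∈ IsLocalRing.maximalIdeal A) {q : Ideal B} [q.IsPrime] (hq : q ≠ ⊥) : algebraMap A B x ∈ q := by
  obtain ⟨y, hy, hy0⟩ := Submodule.exists_mem_ne_zero_of_ne_bot hq
  obtain ⟨r, hr, hdvd⟩ := (Algebra.IsAlgebraic.isAlgebraic (R := A) y).exists_nonzero_dvd
    (mem_nonZeroDivisors_of_ne_zero hy0)
  obtain ⟨N, hN⟩ := exists_algebraMap_mem hdim hx r hr
  obtain ⟨s, hs⟩ := Ideal.mem_span_singleton.1 hN
  refine Ideal.IsPrime.mem_of_pow_mem ‹_› N ?_
  rw [← map_pow, hs, map_mul]
  exact Ideal.mul_mem_right _ _ (q.mem_of_dvd hdvd hy)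

/-- Length of a cyclic module at a prime. -/
theorem lenAt_quot (q : PrimeSpectrum B) (J : Ideal B) :
    LenSum2.lenAt q (B ⧸ J) =
      Module.length (Localization.AtPrime q.asIdeal)
        (Localization.AtPrime q.asIdeal ⧸ J.map (algebraMap B (Localization.AtPrime q.asIdeal))) :=
  let Rp := Localization.AtPrime q.asIdeal
  LinearEquiv.length_eq ((IsLocalizedModule.iso q.asIdeal.primeCompl
    (IsScalarTower.toAlgHom B (B ⧸ J) (Rp ⧸ J.map (algebraMap B Rp))).toLinearMap).extendScalarsOfIsLocalization
      q.asIdeal.primeCompl Rp)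

end

end Groth.Agent.KADeg
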